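import Cfsg.Agent.H641.TC6.Tor
import Cfsg.Agent.H56.Exc.BigRows
import Cfsg.Agent.H983.ElG.KArith

/-!
# S2464, `G₂(q)`: the tori of order `q² ± q + 1` (helper641)

* `tor3_G2` : `TorD (G₂(q)) (q² + q + 1) ((q² + q + 1) / (3, q - 1)) 6 A T`, `q ≥ 3`;
* `tor6_G2` : `TorD (G₂(q)) (q² - q + 1) ((q² - q + 1) / (3, q + 1)) 6 A T`, `q ≥ 3`;
* `c3_six`, `c6_six` : the orders are prime to `6`.
-/

set_option autoImplicit false

namespace Cfsg.Agent.H641.TC6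

open Subgroup Cfsg Cfsg.Lie Cfsg.Agent.H56.Exc Cfsg.Agent.H946.Num Cfsg.Agent.H983.KG2
open Cfsg.Agent.H436 (Prim exists_prim)

universe u

variable {F : Type u} [Field F] [Fintype F] {q : ℕ}

theorem odd_N3' (q : ℕ) : ¬ 2 ∣ N3 q := by
  unfold N3
  have h : 2 ∣ q ^ 2 + q := by
    have := (Nat.even_mul_succ_self q).two_dvd
    have h2 : q * (q + 1) = q ^ 2 + q := by ring
    rwa [h2] at this
  omega

theorem odd_N6' (q : ℕ) : ¬ 2 ∣ N6 q := by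
  intro h
  have h0 : (2 : ℤ) ∣ (q : ℤ) ^ 2 - q + 1 := by
    rw [← cast_N6]
    exact_mod_cast h
  have h1 : (2 : ℤ) ∣ (q : ℤ) * (q - 1) := (Int.even_mul_pred_self q).two_dvd
  have h2 : (q : ℤ) ^ 2 - q + 1 = (q : ℤ) * (q - 1) + 1 := by ring
  rw [h2] at h0
  have h3 := (Int.dvd_add_right h1).1 h0
  norm_num at h3

/-- the orders are prime to `6` -/
theorem c3_six (q : ℕ) : (c3 q).Coprime 6 := by
  have h2 : (c3 q).Coprime 2 := ((Nat.Prime.coprime_iff_not_dvd Nat.prime_two).2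
    fun h => odd_N3' q (h.trans (c3_dvd q))).symm
  have h3 : (c3 q).Coprime 3 := ((Nat.Prime.coprime_iff_not_dvd Nat.prime_three).2 (not_three_c3 q)).symm
  show Nat.Coprime _ (2 * 3)
  exact h2.mul_right h3

theorem c6_six (q : ℕ) : (c6 q).Coprime 6 := by
  have h2 : (c6 q).Coprime 2 := ((Nat.Prime.coprime_iff_not_dvd Nat.prime_two).2
    fun h => odd_N6' q (h.trans (c6_dvd q))).symm
  have h3 : (c6 q).Coprime 3 := ((Nat.Prime.coprime_iff_not_dvd Nat.prime_three).2 (not_three_c6 q)).symm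
  show Nat.Coprime _ (2 * 3)
  exact h2.mul_right h3

/-- **The torus of order `q² + q + 1`.** -/
theorem tor3_G2 (hq : Fintype.card F = q) (h3 : 3 ≤ q) :
    ∃ A T : Subgroup ↥(chevG2.group F), TorD ↥(chevG2.group F) (N3 q) (c3 q) 6 A T := by
  obtain ⟨r, hr⟩ := exists_prim (q := q) (e := 3) (by omega) le_rfl (by omega)
  have hm : ((N3 q : ℕ) : ℤ) = 1 + (q : ℤ) + (q : ℤ) ^ 2 := by
    unfold N3; push_cast; ring
  have h7 : 6 < r := by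
    have hlt := Cfsg.Agent.H56.Exc.prim_lt2 hr (by norm_num) (by norm_num)
    omega
  obtain ⟨T, h1, h2, h3', h4, h5⟩ := Cfsg.Agent.H129.CycCard.card_G2_3 hq hm hr.prime (prim_dvd_3 hr) (by omega)
  have hT : Nat.card ↥T = N3 q := Nat.dvd_antisymm h2 (by rwa [one_mul] at h3')
  obtain ⟨A, hA⟩ := exists_torD (G := ↥(chevG2.group F)) (w := 6) h1 hT (c3_dvd q)
    (fun s hs hsn => ⟨6, big_G2_3 hq hm (prim_c3 (by omega) hs hsn)⟩) hr.prime (dvd_c3 (by omega) hr)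
    (K := (q : ℤ) ^ 6 * ((q : ℤ) ^ 2 - 1) * ((q : ℤ) - 1) * ((q : ℤ) ^ 3 + 1))
    (by rw [ord_G2 hq, hm]; ring) (by push_cast; exact Kap.kap_G2_3 _ (prim_phi_3 hr)) h7
  exact ⟨A, T, hA⟩

/-- **The torus of order `q² - q + 1`.** -/
theorem tor6_G2 (hq : Fintype.card F = q) (h3 : 3 ≤ q) :
    ∃ A T : Subgroup ↥(chevG2.group F), TorD ↥(chevG2.group F) (N6 q) (c6 q) 6 A T := by
  obtain ⟨r, hr⟩ := exists_prim (q := q) (e := 6) (by omega) (by norm_num) (by omega)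
  have hm : ((N6 q : ℕ) : ℤ) = 1 - (q : ℤ) + (q : ℤ) ^ 2 := by
    rw [cast_N6]; ring
  have h7 : 6 < r := Cfsg.Agent.H56.Exc.prim_lt hr (by norm_num)
  obtain ⟨T, h1, h2, h3', h4, h5⟩ := Cfsg.Agent.H129.CycCard.card_G2_6 hq hm hr.prime (prim_dvd_6 hr) (by omega)
  have hT : Nat.card ↥T = N6 q := Nat.dvd_antisymm h2 (by rwa [one_mul] at h3')
  obtain ⟨A, hA⟩ := exists_torD (G := ↥(chevG2.group F)) (w := 6) h1 hT (c6_dvd q)
    (fun s hs hsn => ⟨6, big_G2_6 hq hm (prim_c6 (by omega) hs hsn)⟩) hr.prime (dvd_c6 (by omega) hr)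
    (K := (q : ℤ) ^ 6 * ((q : ℤ) ^ 2 - 1) * ((q : ℤ) + 1) * ((q : ℤ) ^ 3 - 1))
    (by rw [ord_G2 hq, hm]; ring) (by push_cast; exact Kap.kap_G2_6 _ (prim_phi_6 hr)) h7
  exact ⟨A, T, hA⟩

theorem N3_dvd (q : ℕ) : N3 q ∣ 3 * c3 q := by
  conv_lhs => rw [← c3_mul q]
  exact mul_dvd_mul_right (Nat.gcd_dvd_left _ _) _

theorem N6_dvd (q : ℕ) : N6 q ∣ 3 * c6 q := by
  conv_lhs => rw [← c6_mul q]
  exact mul_dvd_mul_right (Nat.gcd_dvd_left _ _) _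

/-- the interface of helper4, `q² + q + 1` -/
theorem tor3 (hq : Fintype.card F = q) (h3 : 3 ≤ q) : ∃ T : Subgroup ↥(chevG2.group F), IsCyclic ↥T ∧
    Nat.card ↥T = q ^ 2 + q + 1 ∧ (∀ y ∈ T, y ^ 3 ≠ 1 → centralizer {y} = T) ∧
    Nat.card ↥(normalizer (T : Set ↥(chevG2.group F))) = 6 * (q ^ 2 + q + 1) := by
  obtain ⟨A, T, h⟩ := tor3_G2 hq h3
  exact ⟨T, h.cycT, h.cardT, fun y hy hy3 => h.cent_pow (N3_dvd q) hy hy3, by rw [← h.normA, h.cardN]; rfl⟩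

/-- the interface of helper4, `q² - q + 1` -/
theorem tor6 (hq : Fintype.card F = q) (h3 : 3 ≤ q) : ∃ T : Subgroup ↥(chevG2.group F), IsCyclic ↥T ∧
    Nat.card ↥T = q ^ 2 - q + 1 ∧ (∀ y ∈ T, y ^ 3 ≠ 1 → centralizer {y} = T) ∧
    Nat.card ↥(normalizer (T : Set ↥(chevG2.group F))) = 6 * (q ^ 2 - q + 1) := by
  have hN : N6 q = q ^ 2 - q + 1 := rfl
  obtain ⟨A, T, h⟩ := tor6_G2 hq h3
  exact ⟨T, h.cycT, by rw [h.cardT, hN], fun y hy hy3 => h.cent_pow (N6_dvd q) hy hy3,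
    by rw [← h.normA, h.cardN, hN]⟩

end Cfsg.Agent.H641.TC6
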