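import Cfsg.Agent.H56.Exc.Auto

/-!
# S2464, `G₂(q)`: the tori of order `Φ₃`, `Φ₆`, abstract part (helper641)

`TorD G m n w A T` : `T` is cyclic of order `m`, `A ≤ T` has order `n`, `T` is the centraliser of every element `≠ 1`
of `A`, `A` is a TI subgroup, `N(A) = N(T)` has order `w * m`.

`exists_torD` : from a cyclic subgroup of order `m` and the big primes dividing `n`.
-/

set_option autoImplicit false
set_option linter.unusedSectionVars false

namespace Cfsg.Agent.H641.TC6

open Subgroup Cfsg.Agent.H56.Exc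

/-- the torus data -/
structure TorD (G : Type*) [Group G] (m n w : ℕ) (A T : Subgroup G) : Prop where
  le : A ≤ T
  cycT : IsCyclic ↥T
  cardA : Nat.card ↥A = n
  cardT : Nat.card ↥T = m
  cent : ∀ a ∈ A, a ≠ 1 → centralizer {a} = T
  ti : ∀ g : G, ∀ a ∈ A, a ≠ 1 → g * a * g⁻¹ ∈ A → g ∈ normalizer (A : Set G)
  normA : normalizer (A : Set G) = normalizer (T : Set G)
  cardN : Nat.card ↥(normalizer (A : Set G)) = w * m
  free : ∀ g : G, ∀ a ∈ A, a ≠ 1 → g * a = a * g → g ∈ T

variable {G : Type*} [Group G] [Finite G]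

theorem mem_norm {A : Subgroup G} {g : G} (h : ∀ x ∈ A, g * x * g⁻¹ ∈ A) : g ∈ normalizer (A : Set G) := by
  have h2 : A.map (MulAut.conj g).toMonoidHom = A := by
    apply Subgroup.eq_of_le_of_card_ge
    · rintro _ ⟨a, ha, rfl⟩
      exact h a ha
    · exact (Nat.card_congr (A.equivMapOfInjective _ (MulAut.conj g).injective).toEquiv).le
  rw [mem_normalizer_iff]
  intro a
  refine ⟨fun ha => h a ha, fun h3 => ?_⟩
  have h4 : g * a * g⁻¹ ∈ A.map (MulAut.conj g).toMonoidHom := by rw [h2]; exact h3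
  obtain ⟨b, hb, hb'⟩ := h4
  have h5 : g * b * g⁻¹ = g * a * g⁻¹ := hb'
  have h6 : b = a := mul_left_cancel (mul_right_cancel h5)
  rw [← h6]; exact hb

theorem conj_mem {A : Subgroup G} {g x : G} (h : g ∈ normalizer (A : Set G)) (hx : x ∈ A) : g * x * g⁻¹ ∈ A :=
  (mem_normalizer_iff.1 h x).1 hx

theorem orderOf_conj (g x : G) : orderOf (g * x * g⁻¹) = orderOf x := by
  rw [← MulAut.conj_apply]; exact (MulAut.conj g).orderOf_eq x

theorem comm_of_cyc {T : Subgroup G} (hT : IsCyclic ↥T) {x y : G} (hx : x ∈ T) (hy : y ∈ T) : x * y = y * x := by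
  let _ := IsCyclic.commGroup (α := ↥T)
  have h1 : (⟨x, hx⟩ : T) * ⟨y, hy⟩ = ⟨y, hy⟩ * ⟨x, hx⟩ := mul_comm _ _
  exact congrArg Subtype.val h1

theorem exists_torD {m n w : ℕ} {T : Subgroup G} (hT : IsCyclic ↥T) (hTm : Nat.card ↥T = m) (hnm : n ∣ m)
    (hbig : ∀ r : ℕ, r.Prime → r ∣ n → ∃ e, Big G r m e) {r₀ : ℕ} (hr₀ : r₀.Prime) (hr₀n : r₀ ∣ n)
    {K : ℤ} (hG : (Nat.card G : ℤ) = m * K) (hK : (K : ZMod r₀) = w) (hw : w < r₀) :
    ∃ A : Subgroup G, TorD G m n w A T := by
  have hfact : Fact r₀.Prime := ⟨hr₀⟩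
  have hm0 : 0 < m := hTm ▸ Nat.card_pos
  have hn0 : 0 < n := Nat.pos_of_dvd_of_pos hnm hm0
  -- a generator
  obtain ⟨⟨t, htT⟩, htgen⟩ := hT.exists_generator
  have htz : ∀ x ∈ T, x ∈ zpowers t := by
    intro x hx
    obtain ⟨j, hj⟩ := htgen ⟨x, hx⟩
    exact ⟨j, congrArg Subtype.val hj⟩
  have htT' : zpowers t = T := le_antisymm (by rw [zpowers_le]; exact htT) htz
  have hot : orderOf t = m := by rw [← Nat.card_zpowers, htT', hTm]
  obtain ⟨k, hk⟩ := hnm
  have hk0 : k ≠ 0 := by rintro rfl; rw [mul_zero] at hk; omega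
  have hoa : orderOf (t ^ k) = n := by
    rw [orderOf_pow_of_dvd hk0 (by rw [hot, hk]; exact dvd_mul_left _ _), hot, hk]
    exact Nat.mul_div_cancel _ (Nat.pos_of_ne_zero hk0)
  obtain ⟨A, hA⟩ : ∃ A, A = zpowers (t ^ k) := ⟨_, rfl⟩
  have hAT : A ≤ T := by rw [hA, zpowers_le]; exact pow_mem htT k
  have hcA : Nat.card ↥A = n := by rw [hA, Nat.card_zpowers, hoa]
  have hmemA : ∀ x ∈ T, orderOf x ∣ n → x ∈ A := by
    intro x hx h
    rw [hA]
    exact mem_zpowers_of_cyclic hT (pow_mem htT k) hx (by rw [hoa]; exact h)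
  have hordA : ∀ x ∈ A, orderOf x ∣ n := by
    intro x hx
    rw [← hcA]
    exact Subgroup.orderOf_dvd_natCard A hx
  have hTC : ∀ x ∈ T, T ≤ centralizer {x} := by
    intro x hx y hy
    rw [mem_centralizer_singleton_iff]
    exact comm_of_cyc hT hy hx
  have hprime : ∀ b ∈ T, ∀ r : ℕ, r.Prime → r ∣ n → orderOf b = r → centralizer {b} = T := by
    intro b hb r hr hrn hbo
    obtain ⟨e, he⟩ := hbig r hr hrn
    symm
    apply Subgroup.eq_of_le_of_card_ge (hTC b hb)
    rw [hTm]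
    exact Nat.le_of_dvd hm0 (he.card b hbo)
  have hcent : ∀ a ∈ A, a ≠ 1 → centralizer {a} = T := by
    intro a ha ha1
    have h1 : orderOf a ≠ 1 := by rwa [Ne, orderOf_eq_one_iff]
    obtain ⟨r, hr, hra⟩ := Nat.exists_prime_and_dvd h1
    obtain ⟨s, hs⟩ := hra
    have ha0 : orderOf a ≠ 0 := (orderOf_pos a).ne'
    have hs0 : s ≠ 0 := by rintro rfl; rw [mul_zero] at hs; exact ha0 hs
    have hb : orderOf (a ^ s) = r := by
      rw [orderOf_pow_of_dvd hs0 (by rw [hs]; exact dvd_mul_left _ _), hs]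
      exact Nat.mul_div_cancel _ (Nat.pos_of_ne_zero hs0)
    refine le_antisymm ?_ (hTC a (hAT ha))
    rw [← hprime (a ^ s) (pow_mem (hAT ha) s) r hr ((Dvd.intro _ hs.symm).trans (hordA a ha)) hb]
    intro y hy
    rw [mem_centralizer_singleton_iff] at hy ⊢
    exact (show Commute y a from hy).pow_right s
  have hconjT : ∀ g : G, ∀ a ∈ A, a ≠ 1 → g * a * g⁻¹ ∈ A → ∀ x ∈ T, g * x * g⁻¹ ∈ T := by
    intro g a ha ha1 hg x hx
    have h1 : g * a * g⁻¹ ≠ 1 := by
      intro h
      apply ha1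
      have h2 := congrArg (fun z => g⁻¹ * z * g) h
      simpa [mul_assoc] using h2
    rw [← hcent _ hg h1, mem_centralizer_singleton_iff]
    have h3 : x * a = a * x := comm_of_cyc hT hx (hAT ha)
    have e1 : g * x * g⁻¹ * (g * a * g⁻¹) = g * (x * a) * g⁻¹ := by group
    have e2 : g * a * g⁻¹ * (g * x * g⁻¹) = g * (a * x) * g⁻¹ := by group
    rw [e1, e2, h3]
  have hNT : ∀ g : G, (∀ x ∈ T, g * x * g⁻¹ ∈ T) → g ∈ normalizer (A : Set G) := by
    intro g hg
    apply mem_norm
    intro x hx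
    exact hmemA _ (hg x (hAT hx)) (by rw [orderOf_conj]; exact hordA x hx)
  have hti : ∀ g : G, ∀ a ∈ A, a ≠ 1 → g * a * g⁻¹ ∈ A → g ∈ normalizer (A : Set G) :=
    fun g a ha ha1 hg => hNT g (hconjT g a ha ha1 hg)
  -- an element of order `r₀`
  obtain ⟨z', hz'⟩ := exists_prime_orderOf_dvd_card' (G := ↥A) r₀ (by rw [hcA]; exact hr₀n)
  obtain ⟨z, hzA, hz⟩ : ∃ z ∈ A, orderOf z = r₀ := ⟨z', z'.2, by rw [Subgroup.orderOf_coe, hz']⟩
  have hz1 : z ≠ 1 := by
    rintro rfl
    rw [orderOf_one] at hz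
    exact hr₀.one_lt.ne hz
  have hzT : z ∈ T := hAT hzA
  have hNA : ∀ g ∈ normalizer (A : Set G), ∀ x ∈ T, g * x * g⁻¹ ∈ T :=
    fun g hg => hconjT g z hzA hz1 (conj_mem hg hzA)
  have hnorm : normalizer (A : Set G) = normalizer (T : Set G) := by
    apply le_antisymm
    · intro g hg
      exact mem_norm (hNA g hg)
    · intro g hg
      exact hNT g fun x hx => conj_mem hg hx
  have hzz : ∀ x ∈ T, orderOf x = r₀ → x ∈ zpowers z := fun x hx h =>
    mem_zpowers_of_cyclic hT hzT hx (by rw [h, hz])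
  have hNz : normalizer (A : Set G) = normalizer (zpowers z : Set G) := by
    apply le_antisymm
    · intro g hg
      apply mem_norm
      rintro _ ⟨j, rfl⟩
      show g * z ^ j * g⁻¹ ∈ _
      rw [← conj_zpow]
      exact zpow_mem (hzz _ (hAT (conj_mem hg hzA)) (by rw [orderOf_conj, hz])) j
    · intro g hg
      refine hti g z hzA hz1 ?_
      have h1 : g * z * g⁻¹ ∈ zpowers z := conj_mem hg (mem_zpowers z)
      exact (zpowers_le.2 hzA) h1
  obtain ⟨a, ha1, ha2, ha0, -⟩ := exists_automizer hr₀ hz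
  rw [hcent z hzA hz1, hTm, ← hNz] at ha1
  -- the Sylow subgroup
  have hyp : IsPGroup r₀ (zpowers z) := by
    rw [IsPGroup.iff_card]; exact ⟨1, by rw [Nat.card_zpowers, hz, pow_one]⟩
  obtain ⟨P, hP⟩ := hyp.exists_le_sylow
  have hP1 : (P : Subgroup G) ≠ ⊥ := by
    intro h1
    rw [h1, le_bot_iff, zpowers_eq_bot] at hP
    exact hz1 hP
  obtain ⟨y, hyP, hy, hPy⟩ := exists_central_orderOf P.2 hP1
  have hyT : y ∈ T := by
    rw [← hcent z hzA hz1, mem_centralizer_singleton_iff]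
    have h1 := mem_centralizer_singleton_iff.1 (hPy (hP (mem_zpowers _)))
    exact h1.symm
  have hPT : (P : Subgroup G) ≤ T := by
    rw [hprime y hyT r₀ hr₀ hr₀n hy] at hPy
    exact hPy
  have hPc : IsCyclic ↥(P : Subgroup G) :=
    isCyclic_of_injective (Subgroup.inclusion hPT) (Subgroup.inclusion_injective hPT)
  obtain ⟨⟨c, hcP⟩, hgen⟩ := hPc.exists_generator
  have hgen' : (P : Subgroup G) = zpowers c := by
    apply le_antisymm
    · intro x hx
      obtain ⟨j, hj⟩ := hgen ⟨x, hx⟩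
      exact ⟨j, congrArg Subtype.val hj⟩
    · rw [zpowers_le]; exact hcP
  have hNP : normalizer ((P : Subgroup G) : Set G) = normalizer (A : Set G) := by
    apply le_antisymm
    · intro g hg
      rw [hNz]
      apply mem_norm
      rintro _ ⟨j, rfl⟩
      show g * z ^ j * g⁻¹ ∈ _
      rw [← conj_zpow]
      exact zpow_mem (hzz _ (hPT (conj_mem hg (hP (mem_zpowers z)))) (by rw [orderOf_conj, hz])) j
    · intro g hg
      apply mem_norm
      intro x hx
      rw [hgen']
      refine mem_zpowers_of_cyclic hT (hPT hcP) (hNA g hg x (hPT hx)) ?_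
      rw [orderOf_conj, ← Nat.card_zpowers c, ← hgen']
      exact Subgroup.orderOf_dvd_natCard _ hx
  have hsyl : Nat.card (Sylow r₀ G) = (normalizer (A : Set G)).index := by
    rw [Sylow.card_eq_index_normalizer P]
    exact congrArg Subgroup.index hNP
  have hmod : (normalizer (A : Set G)).index ≡ 1 [MOD r₀] := by
    rw [← hsyl]
    exact card_sylow_modEq_one r₀ G
  have hcard : Nat.card G = a * m * (normalizer (A : Set G)).index := by
    rw [← ha1]
    exact (Subgroup.card_mul_index _).symm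
  have hKa : (K : ℤ) = a * (normalizer (A : Set G)).index := by
    have h1 : (m : ℤ) * K = m * (a * (normalizer (A : Set G)).index) := by
      rw [← hG, hcard]
      push_cast
      ring
    exact mul_left_cancel₀ (by exact_mod_cast hm0.ne') h1
  have hmodz : (((normalizer (A : Set G)).index : ℕ) : ZMod r₀) = 1 := by
    have := (ZMod.natCast_eq_natCast_iff _ _ _).2 hmod
    simpa using this
  have haw : (a : ZMod r₀) = w := by
    rw [← hK, hKa]
    push_cast
    rw [hmodz, mul_one]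
  have har : a < r₀ := by
    have := hr₀.two_le
    exact lt_of_le_of_lt (Nat.le_of_dvd (by omega) ha2) (by omega)
  have haw' : a = w := by
    rw [ZMod.natCast_eq_natCast_iff, Nat.ModEq, Nat.mod_eq_of_lt har, Nat.mod_eq_of_lt hw] at haw
    exact haw
  refine ⟨A, hAT, hT, hcA, hTm, hcent, hti, hnorm, by rw [ha1, haw'], fun g a ha ha1 hg => ?_⟩
  rw [← hcent a ha ha1, mem_centralizer_singleton_iff]
  exact hg

namespace TorD

variable {m n w : ℕ} {A T : Subgroup G}

theorem mem (h : TorD G m n w A T) {x : G} (hx : x ∈ T) (hxn : orderOf x ∣ n) : x ∈ A := by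
  have hT := h.cycT
  have hA : IsCyclic ↥A :=
    isCyclic_of_injective (Subgroup.inclusion h.le) (Subgroup.inclusion_injective h.le)
  obtain ⟨⟨c, hc⟩, hgen⟩ := hA.exists_generator
  have hA' : A = zpowers c := by
    apply le_antisymm
    · intro y hy
      obtain ⟨j, hj⟩ := hgen ⟨y, hy⟩
      exact ⟨j, congrArg Subtype.val hj⟩
    · rw [zpowers_le]; exact hc
  have hco : orderOf c = n := by rw [← Nat.card_zpowers, ← hA', h.cardA]
  rw [hA']
  exact mem_zpowers_of_cyclic hT (h.le hc) hx (by rw [hco]; exact hxn)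

/-- the centralisers of all elements outside the part of order `k` -/
theorem cent_pow (h : TorD G m n w A T) {k : ℕ} (hk : m ∣ k * n) {y : G} (hy : y ∈ T) (hy1 : y ^ k ≠ 1) :
    centralizer {y} = T := by
  have h1 : y ^ k ∈ A := by
    refine h.mem (pow_mem hy k) ?_
    apply orderOf_dvd_of_pow_eq_one
    rw [← pow_mul]
    have h2 : orderOf y ∣ m := by rw [← h.cardT]; exact Subgroup.orderOf_dvd_natCard T hy
    exact orderOf_dvd_iff_pow_eq_one.1 (h2.trans hk)
  apply le_antisymm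
  · rw [← h.cent _ h1 hy1]
    intro z hz
    rw [mem_centralizer_singleton_iff] at hz ⊢
    exact (show Commute z y from hz).pow_right k
  · intro z hz
    rw [mem_centralizer_singleton_iff]
    exact comm_of_cyc h.cycT hz hy

/-- elements of order `n` -/
theorem exists_orderOf (h : TorD G m n w A T) : ∃ x ∈ A, orderOf x = n := by
  have hT := h.cycT
  have hA : IsCyclic ↥A :=
    isCyclic_of_injective (Subgroup.inclusion h.le) (Subgroup.inclusion_injective h.le)
  obtain ⟨c, hgen⟩ := hA.exists_generator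
  refine ⟨c, c.2, ?_⟩
  rw [Subgroup.orderOf_coe, ← h.cardA]
  exact orderOf_eq_card_of_forall_mem_zpowers hgen

end TorD

end Cfsg.Agent.H641.TC6
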